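import Cfsg.Agent.Lib.UFourType.Basic
import Cfsg.Agent.Lib.UFourType.Fusion.Data
import Mathlib.GroupTheory.Sylow
import Mathlib.Tactic.Group

/-!
One class of involutions: each involution of the centraliser is conjugate to one of four codes, which the cycling
element links to the central one.
-/

set_option autoImplicit false
set_option maxRecDepth 100000

namespace CfsgLib.UFourType.Fusion

/-- The representatives. -/
def repCodes : List ℕ := [1, 2, linkA.2.1, linkB.2.1]

/-- Every involution code is certified. -/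
def invB : Bool :=
  (List.range 1152).all fun c => Nat.beq c 0 || !(Nat.beq (uMul c c) 0) ||
    invCert.any fun p => Nat.beq p.1 c && Nat.blt p.2.1 1152 && repCodes.contains p.2.2 &&
      Nat.beq (uMul c p.2.1) (uMul p.2.1 p.2.2)

/-- The links. -/
def linkB' : Bool :=
  psiT.contains (1, 2) && [linkA, linkB].all fun l => psiT.contains (l.1, l.2.1) && Nat.blt l.1 1152 &&
    Nat.blt l.2.1 1152 && Nat.blt l.2.2 1152 && Nat.beq (uMul l.1 l.2.2) (uMul l.2.2 2)

theorem inv_ok : invB = true := by decide +kernel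

theorem link_ok : linkB' = true := by decide +kernel

variable {G : Type*} [Group G] {z : G} {el : ℕ → G}

theorem el_comm (C : Code z el) {a b : ℕ} (ha : a < 1152) (hb : b < 1152) :
    el a * el b = el b * el a ↔ uMul a b = uMul b a := by
  rw [(C.mul a b ha hb).2, (C.mul b a hb ha).2]
  exact ⟨C.inj _ _ (C.mul a b ha hb).1 (C.mul b a hb ha).1, fun e => e ▸ rfl⟩

theorem conj_of_swap {a b h : G} (e : a * h = h * b) : IsConj b a :=
  isConj_iff.2 ⟨h, by rw [← e, mul_inv_cancel_right]⟩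

theorem conj_code (C : Code z el) {a b h : ℕ} (ha : a < 1152) (hb : b < 1152) (hh : h < 1152)
    (e : uMul a h = uMul h b) : IsConj (el b) (el a) :=
  conj_of_swap (h := el h) (by rw [(C.mul a h ha hh).2, (C.mul h b hh hb).2, e])

theorem rep_conj (C : Code z el) {s : G} (S : Cyc el s) {r : ℕ} (hr : r ∈ repCodes) :
    r < 1152 ∧ IsConj z (el r) := by
  have h := link_ok
  simp only [linkB', List.all_eq_true, Bool.and_eq_true, List.contains_iff_mem, Nat.blt_eq, Nat.beq_eq] at h
  obtain ⟨h12, hl⟩ := h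
  have h2 : IsConj z (el 2) := by
    have := (conj_of_swap (S.tab _ h12)).symm
    rwa [show el 1 = z from C.z_eq] at this
  have hlink : ∀ l ∈ [linkA, linkB], l.2.1 < 1152 ∧ IsConj z (el l.2.1) := fun l hl' => by
    obtain ⟨⟨⟨⟨hp, h1⟩, h2'⟩, h3⟩, e⟩ := hl l hl'
    exact ⟨h2', (h2.trans (conj_code C h1 (by norm_num) h3 e)).trans (conj_of_swap (S.tab _ hp)).symm⟩
  simp only [repCodes, List.mem_cons, List.not_mem_nil, or_false] at hr
  rcases hr with rfl | rfl | rfl | rfl
  · exact ⟨by norm_num, by rw [show el 1 = z from C.z_eq]⟩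
  · exact ⟨by norm_num, h2⟩
  · exact hlink linkA (by simp)
  · exact hlink linkB (by simp)

theorem inv_conj (C : Code z el) {s : G} (S : Cyc el s) {g : G} (hg : g * z = z * g) (h1 : g ≠ 1) (h2 : g * g = 1) :
    IsConj z g := by
  obtain ⟨c, hc, rfl⟩ := C.surj g (Subgroup.mem_centralizer_singleton_iff.2 hg)
  rw [(C.mul c c hc hc).2, ← C.one] at h2
  have h := inv_ok
  simp only [invB, List.all_eq_true, List.mem_range, Bool.or_eq_true, Bool.not_eq_true', List.any_eq_true,
    Bool.and_eq_true, Nat.beq_eq, Nat.blt_eq, List.contains_iff_mem] at h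
  rcases h c hc with (e | e) | ⟨⟨c', k, r⟩, -, ⟨⟨⟨e, hk⟩, hr⟩, eq'⟩⟩
  · exact absurd (e ▸ C.one) h1
  · have : Nat.beq (uMul c c) 0 = true := Nat.beq_eq ▸ C.inj _ 0 (C.mul c c hc hc).1 (by norm_num) h2
    rw [this] at e
    exact absurd e (by simp)
  · obtain ⟨hr', hzr⟩ := rep_conj C S hr
    exact hzr.trans (conj_code C hc hr' hk eq')

/-- All involutions are conjugate. -/
theorem one_class [Finite G] (C : Code z el) {s : G} (S : Cyc el s) :
    ∀ g : G, orderOf g = 2 → IsConj g z := by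
  haveI := Fact.mk Nat.prime_two
  have hzz : z * z = 1 := by
    rw [← C.z_eq, (C.mul zC zC (by norm_num [zC]) (by norm_num [zC])).2, show uMul zC zC = 0 by decide +kernel, C.one]
  have hz1 : z ≠ 1 := fun e => by
    have := C.inj zC 0 (by norm_num [zC]) (by norm_num) (C.z_eq.trans (e.trans C.one.symm))
    norm_num [zC] at this
  have key : ∀ (k u : G), u * (k * z * k⁻¹) = k * z * k⁻¹ * u → u ≠ 1 → u * u = 1 → IsConj z u := by
    intro k u hc hu1 hu2
    have h := inv_conj C S (g := k⁻¹ * u * k) (by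
        calc k⁻¹ * u * k * z = k⁻¹ * (u * (k * z * k⁻¹)) * k := by group
          _ = k⁻¹ * (k * z * k⁻¹ * u) * k := by rw [hc]
          _ = z * (k⁻¹ * u * k) := by group)
      (fun e => hu1 (by rw [show u = k * (k⁻¹ * u * k) * k⁻¹ by group, e]; group))
      (by rw [show k⁻¹ * u * k * (k⁻¹ * u * k) = k⁻¹ * (u * u) * k by group, hu2]; group)
    exact h.trans (isConj_iff.2 ⟨k, by group⟩)
  intro g hg
  have hzp : IsPGroup 2 ↥(Subgroup.zpowers z) := IsPGroup.of_card (n := 1) (by
    rw [Nat.card_zpowers, pow_one]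
    exact orderOf_eq_prime (by rw [pow_two, hzz]) hz1)
  have hgp : IsPGroup 2 ↥(Subgroup.zpowers g) := IsPGroup.of_card (n := 1) (by rw [Nat.card_zpowers, pow_one, hg])
  obtain ⟨T, hT⟩ := hgp.exists_le_sylow
  obtain ⟨T₀, hT₀⟩ := hzp.exists_le_sylow
  obtain ⟨k, rfl⟩ := MulAction.exists_smul_eq G T₀ T
  have hzT : k * z * k⁻¹ ∈ ((k • T₀ : Sylow 2 G) : Subgroup G) := by
    rw [Sylow.coe_subgroup_smul]
    exact Subgroup.smul_mem_pointwise_smul z (MulAut.conj k) _ (hT₀ (Subgroup.mem_zpowers z))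
  have hgT := hT (Subgroup.mem_zpowers g)
  set T' : Subgroup G := ((k • T₀ : Sylow 2 G) : Subgroup G)
  haveI : Nontrivial ↥T' := ⟨⟨⟨k * z * k⁻¹, hzT⟩, 1, fun e => hz1 (conj_eq_one_iff.1 (congrArg Subtype.val e))⟩⟩
  haveI := (show IsPGroup 2 ↥T' from (k • T₀).2).center_nontrivial
  obtain ⟨u, hu⟩ := exists_prime_orderOf_dvd_card' (G := ↥(Subgroup.center ↥T')) 2 (by
    obtain ⟨n, hn⟩ := IsPGroup.iff_card.1 ((show IsPGroup 2 ↥T' from (k • T₀).2).to_subgroup (Subgroup.center ↥T'))
    rw [hn]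
    refine dvd_pow_self 2 fun e => ?_
    rw [e, pow_zero] at hn
    exact Finite.one_lt_card.ne' hn)
  set u' : G := ((u : ↥T') : G) with hu'
  have huc : ∀ x ∈ T', u' * x = x * u' := fun x hx =>
    congrArg Subtype.val (Subgroup.mem_center_iff.1 u.2 ⟨x, hx⟩).symm
  have hu2 : orderOf u' = 2 := by rw [hu', Subgroup.orderOf_coe, Subgroup.orderOf_coe, hu]
  have hsq : ∀ x : G, orderOf x = 2 → x ≠ 1 ∧ x * x = 1 := fun x hx =>
    ⟨fun e => by rw [e, orderOf_one] at hx; omega, by rw [← pow_two, ← hx, pow_orderOf_eq_one]⟩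
  obtain ⟨m, hm⟩ := isConj_iff.1 (key k u' (huc _ hzT) (hsq _ hu2).1 (hsq _ hu2).2)
  exact (key m g (by rw [hm]; exact (huc g hgT).symm) (hsq g hg).1 (hsq g hg).2).symm

end CfsgLib.UFourType.Fusion
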