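import Cfsg.Agent.Lib.UFourType.Fusion.Local

/-!
Checks on the normal subgroup of order 32 and on the elementary subgroup of order 16.
-/

set_option autoImplicit false
set_option maxRecDepth 100000

namespace CfsgLib.UFourType.Fusion

/-- Products, commutators and squares in the normal subgroup. -/
def qGrpB : Bool :=
  (List.range 32).all fun v => (Nat.beq (uMul v v) 0 || Nat.beq (uMul v v) 1) && (List.range 32).all fun w =>
    Nat.blt (uMul v w) 32 && (Nat.beq (uMul v w) (uMul w v) || Nat.beq (uMul v w) (uMul 1 (uMul w v)))

/-- The centre of the normal subgroup. -/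
def qCenB : Bool :=
  (List.range 32).all fun v => Nat.blt v 2 || (List.range 32).any fun w => !(Nat.beq (uMul v w) (uMul w v))

/-- The normal subgroup is self-centralising. -/
def qSelfB : Bool :=
  (List.range 1152).all fun c => Nat.blt c 32 || (List.range 32).any fun w => !(Nat.beq (uMul c w) (uMul w c))

/-- A code is a member times a representative. -/
def qSplitB : Bool :=
  (List.range 1152).all fun c => Nat.beq (uMul (c % 32) (32 * (c / 32))) c

/-- The representatives normalise. -/
def qConjB : Bool :=
  (List.range 36).all fun l => (List.range 32).all fun v =>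
    Nat.beq (uMul (32 * l) v) (uMul (uGet aTab 5 l v) (32 * l))

/-- The noncentral involutions of the normal subgroup are fused in the centraliser. -/
def qInvB : Bool :=
  (List.range 32).all fun v => Nat.blt v 2 || !(Nat.beq (uMul v v) 0) ||
    invCert.any fun p => Nat.beq p.1 v && Nat.blt p.2.1 1152 && Nat.beq p.2.2 2 && Nat.beq (uMul v p.2.1) (uMul p.2.1 2)

/-- The pair of the table used for the action of `k` times the cycling element on a member. -/
def ePair (k e : ℕ) : Option (ℕ × ℕ) := psiT.find? fun p => Nat.beq (uMul k p.1) (uMul e k)

/-- The action of `k` times the cycling element. -/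
def eNext (k e : ℕ) : ℕ := ((ePair k e).getD (0, 0)).2

/-- Iterates of the action. -/
def eIter (k : ℕ) : ℕ → ℕ → ℕ
  | 0, e => e
  | n + 1, e => eNext k (eIter k n e)

/-- The action is defined, has the period `n` and the fixed members `fix`. -/
def eActB (k n : ℕ) (fix : List ℕ) : Bool :=
  Nat.blt k 1152 && eCodes.all fun e => Nat.blt e 1152 && (ePair k e).isSome && eCodes.contains (eNext k e) &&
    Nat.beq (eIter k n e) e && (!(Nat.beq (eNext k e) e) || fix.contains e)

/-- The elementary subgroup is self-centralising. -/
def eCenB : Bool :=
  (List.range 1152).all fun c => eCodes.contains c || eCodes.any fun e => !(Nat.beq (uMul c e) (uMul e c))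

/-- An element centralising the local group and fixed by the table is trivial; the table has period three. -/
def lFixB : Bool :=
  (List.range 64).all fun i => Nat.beq (lP (lP (lP i))) i &&
    (Nat.beq i 0 || !(Nat.beq (lP i) i) || (List.range 64).any fun j => !(Nat.beq (lMul i j) (lMul j i)))

theorem qGrp_ok : qGrpB = true := by decide +kernel

theorem qCen_ok : qCenB = true := by decide +kernel

theorem qSelf_ok : qSelfB = true := by decide +kernel

theorem qSplit_ok : qSplitB = true := by decide +kernel

theorem qConj_ok : qConjB = true := by decide +kernel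

theorem qInv_ok : qInvB = true := by decide +kernel

theorem eCen_ok : eCenB = true := by decide +kernel

theorem lFix_ok : lFixB = true := by decide +kernel

theorem eOne_ok : eActB 1125 5 [0] = true := by decide +kernel

theorem eTwo_ok : eActB 247 4 [0, 965] = true := by decide +kernel

theorem switch_ok : uMul (uMul (uMul (eIter 247 3 1) (eIter 247 2 1)) (eIter 247 1 1)) 1 = 965 ∧ uMul 965 965 = 0 := by
  decide +kernel

theorem small_ok : uMul 1 2 = 3 ∧ uMul 2 3 = 1 ∧ uMul 2 1 = 3 ∧ uMul 3 2 = 1 ∧ uMul 1 1 = 0 ∧ uMul 2 2 = 0 ∧
    uMul aC aC ≠ 0 ∧ uMul (uMul aC aC) aC = 0 ∧ eCodes.contains 1 = true ∧ psiT.contains (1, 2) = true ∧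
    psiT.contains (2, 3) = true ∧ psiT.contains (3, 1) = true := by
  decide +kernel

end CfsgLib.UFourType.Fusion
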