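import Cfsg.Agent.Lib.UFourType.Fusion.Local
import Mathlib.Tactic.NormNum
import Mathlib.Tactic.IntervalCases
import Mathlib.Algebra.Group.Nat.Defs
import Mathlib.Tactic.Ring

/-!
The automorphisms of the centraliser of the four-group cycling it: all agree with the prescribed one up to an inner one.
-/

set_option autoImplicit false
set_option maxRecDepth 100000

namespace CfsgLib.UFourType.Fusion

/-- A conjugation map of the centraliser of the four-group, in local numbers. -/
structure LAut (β : ℕ → ℕ) : Prop where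
  lt : ∀ i < 64, β i < 64
  zero : β 0 = 0
  mul : ∀ i < 64, ∀ j < 64, β (lMul i j) = lMul (β i) (β j)
  one : β 1 = 2
  two : β 2 = 3
  meet : ∀ i < 16, 4 ≤ i → ¬ β i < 16
  cube : ∃ c < 64, β c = c ∧ ∀ i < 64, lMul (β (β (β i))) c = lMul c i

/-- The conditions on the image of the last of an initial segment of the generators. -/
def extB (ys : List ℕ) : Bool :=
  ((List.range ys.length).all fun k =>
      Nat.beq (lMul (ys.getD (ys.length - 1) 0) (ys.getD k 0)) (lVal ys (lMul (2 ^ (ys.length - 1)) (2 ^ k)) 0)) &&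
    (Nat.blt 4 ys.length || (List.range (2 ^ (ys.length - 1))).all fun i =>
      !(Nat.blt (lVal ys (2 ^ (ys.length - 1) + i) 0) 16))

/-- The possible images. -/
def surv : ℕ → List (List ℕ)
  | 0 => [[2, 3]]
  | k + 1 => (surv k).flatMap fun ys => ((List.range 64).map fun y => ys ++ [y]).filter extB

/-- The cube is a conjugation by a fixed element. -/
def cubeB (ys : List ℕ) : Bool :=
  (List.range 64).any fun c => Nat.beq (lVal ys c 0) c &&
    lG.all fun x => Nat.beq (lMul (lVal ys (lVal ys (lVal ys x 0) 0) 0) c) (lMul c x)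

/-- The map is the prescribed one up to an inner one. -/
def innB (ys : List ℕ) : Bool :=
  (List.range 64).any fun h => (List.range 64).all fun i => Nat.beq (lMul (lVal ys i 0) h) (lMul h (lP i))

/-- The subgroups of initial generators. -/
def spanB : Bool :=
  (List.range 7).all fun k => (List.range (2 ^ k)).all fun i =>
    Nat.beq (lVal (lG.take k) i 0) i && (List.range k).all fun j => Nat.blt (lMul i (2 ^ j)) (2 ^ k)

theorem span_ok : spanB = true := by decide +kernel

set_option maxHeartbeats 0 in
theorem surv_ok : ((surv 4).all fun ys => !cubeB ys || innB ys) = true := by decide +kernel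

theorem four_lt : ∀ i < 4, lMul 1 2 = 3 ∧ lMul 2 3 = 1 ∧ i < 64 := by decide +kernel

namespace LAut

variable {β : ℕ → ℕ} (b : LAut β)
include b

theorem val (ys : List ℕ) (hys : ∀ y ∈ ys, y < 64) : ∀ i a, a < 64 →
    lVal ys i a < 64 ∧ lVal (ys.map β) i (β a) = β (lVal ys i a) := by
  induction ys with
  | nil => exact fun i a ha => ⟨ha, rfl⟩
  | cons y ys ih =>
    intro i a ha
    have hy := hys y (List.mem_cons_self ..)
    have hys' : ∀ z ∈ ys, z < 64 := fun z hz => hys z (List.mem_cons_of_mem _ hz)
    simp only [List.map_cons, lVal]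
    split
    · rw [← b.mul a ha y hy]
      exact ih hys' _ _ (lMul_spec ha hy).1
    · exact ih hys' _ _ ha

theorem val_take {k : ℕ} (hk : k ≤ 6) {i : ℕ} (hi : i < 2 ^ k) :
    lVal ((lG.take k).map β) i 0 = β i := by
  have hG : ∀ y ∈ lG.take k, y < 64 := fun y hy => by
    have := List.mem_of_mem_take hy
    simp [lG] at this
    omega
  have h := span_ok
  simp only [spanB, List.all_eq_true, List.mem_range, Bool.and_eq_true, Nat.beq_eq] at h
  have e := (b.val _ hG i 0 (by norm_num)).2
  rw [b.zero] at e
  rw [e, (h k (by omega) i hi).1]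

theorem four {i : ℕ} (hi : i < 4) : β i < 16 := by
  obtain ⟨e1, -, -⟩ := four_lt i hi
  have h3 : β 3 = 1 := by
    have := b.mul 1 (by norm_num) 2 (by norm_num)
    rw [e1, b.one, b.two, (four_lt 0 (by norm_num)).2.1] at this
    exact this
  interval_cases i
  · rw [b.zero]; norm_num
  · rw [b.one]; norm_num
  · rw [b.two]; norm_num
  · rw [h3]; norm_num

theorem ext_true {k : ℕ} (hk3 : 3 ≤ k) (hk : k ≤ 6) : extB ((lG.take k).map β) = true := by
  have hlen : ((lG.take k).map β).length = k := by simp [lG]; omega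
  have h := span_ok
  simp only [spanB, List.all_eq_true, List.mem_range, Bool.and_eq_true, Nat.blt_eq] at h
  have h64 : 2 ^ k ≤ 64 := (Nat.pow_le_pow_right (by norm_num) hk).trans_eq (by norm_num)
  have hpow : ∀ j < k, 2 ^ j < 2 ^ k := fun j hj => Nat.pow_lt_pow_right (by norm_num) hj
  have hget : ∀ j < k, ((lG.take k).map β).getD j 0 = β (2 ^ j) := fun j hj => by
    have : j < 6 := by omega
    rw [List.getD_eq_getElem _ _ (by omega), List.getElem_map, List.getElem_take]
    congr 1
    interval_cases j <;> rfl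
  simp only [extB, hlen, List.all_eq_true, List.mem_range, Bool.and_eq_true, Bool.or_eq_true, Nat.blt_eq]
  refine ⟨fun j hj => ?_, ?_⟩
  · rw [Nat.beq_eq, hget _ (by omega), hget j hj, b.val_take hk ((h k (by omega) _ (hpow _ (by omega))).2 j hj),
      b.mul _ (by have := hpow (k - 1) (by omega); omega) _ (by have := hpow j hj; omega)]
  · by_cases h4 : 4 < k
    · exact Or.inl h4
    refine Or.inr fun i hi => ?_
    have h16 : 2 ^ k ≤ 16 := (Nat.pow_le_pow_right (by norm_num) (by omega : k ≤ 4)).trans_eq (by norm_num)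
    have h2 : 2 ^ k = 2 ^ (k - 1) + 2 ^ (k - 1) := by
      conv_lhs => rw [show k = k - 1 + 1 by omega, pow_succ]
      omega
    have h4' : 4 ≤ 2 ^ (k - 1) := (by norm_num : 4 ≤ 2 ^ 2).trans (Nat.pow_le_pow_right (by norm_num) (by omega))
    rw [b.val_take hk (by omega)]
    simp only [Bool.not_eq_true', Bool.eq_false_iff, Ne, Nat.blt_eq]
    exact b.meet _ (by omega) (by omega)

theorem mem_surv : ∀ k ≤ 4, (lG.take (k + 2)).map β ∈ surv k
  | 0, _ => by simp [lG, surv, b.one, b.two]
  | k + 1, hk => by
    simp only [surv, List.mem_flatMap, List.mem_filter, List.mem_map, List.mem_range]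
    refine ⟨_, mem_surv k (by omega), ⟨β (2 ^ (k + 2)), b.lt _ ?_, ?_⟩, b.ext_true (by omega) (by omega)⟩
    · exact lt_of_lt_of_le (Nat.pow_lt_pow_right (by norm_num) (show k + 2 < 6 by omega)) (by norm_num)
    · have : k < 4 := by omega
      interval_cases k <;> rfl

/-- Every such map is the prescribed one up to an inner one. -/
theorem exists_inn : ∃ h < 64, ∀ i < 64, lMul (β i) h = lMul h (lP i) := by
  have hm := b.mem_surv 4 le_rfl
  have hv : ∀ i < 64, lVal ((lG.take 6).map β) i 0 = β i := fun i hi => b.val_take le_rfl (by simpa using hi)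
  have h := List.all_eq_true.1 surv_ok _ hm
  simp only [Bool.or_eq_true, Bool.not_eq_true', Bool.eq_false_iff] at h
  have hc : cubeB ((lG.take (4 + 2)).map β) = true := by
    obtain ⟨c, hc, e, h3⟩ := b.cube
    simp only [cubeB, List.any_eq_true, List.mem_range, Bool.and_eq_true, List.all_eq_true, Nat.beq_eq]
    refine ⟨c, hc, (hv c hc).trans e, fun x hx => ?_⟩
    have hx' : x < 64 := by
      simp [lG] at hx
      omega
    rw [hv x hx', hv _ (b.lt x hx'), hv _ (b.lt _ (b.lt x hx'))]
    exact h3 x hx'
  have hi := h.resolve_left (fun e => e hc)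
  simp only [innB, List.any_eq_true, List.mem_range, List.all_eq_true, Nat.beq_eq] at hi
  obtain ⟨g, hg, hg'⟩ := hi
  exact ⟨g, hg, fun i hi => by rw [← hv i hi]; exact hg' i hi⟩

end LAut

end CfsgLib.UFourType.Fusion
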