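import Cfsg.Agent.S1774
import Cfsg.Agent.Lib.UFourType.Fusion.Checks
import Cfsg.Agent.Lib.UFourType.Fusion.Class
import Cfsg.Agent.Lib.UFourType.Fusion.Table

/-!
The element cycling the four-group, from the codes, the fusion into the normal subgroup and the meet of order four.
-/

set_option autoImplicit false
set_option linter.style.haveILetI false
set_option maxRecDepth 100000

namespace CfsgLib.UFourType.Fusion

variable {G : Type*} [Group G] {z : G} {el : ℕ → G}

theorem eAct_spec {k n : ℕ} {fix : List ℕ} (h : eActB k n fix = true) :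
    k < 1152 ∧ ∀ e ∈ eCodes, e < 1152 ∧ eNext k e ∈ eCodes ∧ eIter k n e = e ∧ (eNext k e = e → e ∈ fix) ∧
      ∃ p ∈ psiT, p.2 = eNext k e ∧ uMul k p.1 = uMul e k := by
  simp only [eActB, Bool.and_eq_true, Nat.blt_eq, List.all_eq_true, List.contains_iff_mem, Bool.or_eq_true,
    Bool.not_eq_true', Nat.beq_eq] at h
  refine ⟨h.1, fun e he => ?_⟩
  obtain ⟨⟨⟨⟨h1, h2⟩, h3⟩, h4⟩, h5⟩ := h.2 e he
  refine ⟨h1, h3, h4, fun e' => h5.resolve_left fun hne => ?_, ?_⟩
  · have : Nat.beq (eNext k e) e = true := Nat.beq_eq ▸ e'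
    rw [this] at hne
    exact Bool.noConfusion hne
  · obtain ⟨p, hp⟩ := Option.isSome_iff_exists.1 h2
    exact ⟨p, List.mem_of_find?_eq_some hp, by rw [eNext, hp]; rfl,
      Nat.eq_of_beq_eq_true (List.find?_some (p := fun p : ℕ × ℕ => Nat.beq (uMul k p.1) (uMul e k)) hp)⟩

theorem psi_spec {p : ℕ × ℕ} (hp : p ∈ psiT) : ∃ i < 64, lc i = p.1 ∧ lc (lP i) = p.2 := by
  have h := psi_ok
  simp only [psiB, List.all_eq_true, List.any_eq_true, List.mem_range, Bool.and_eq_true, Nat.beq_eq] at h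
  exact h p hp

variable (C : Code z el)
include C

theorem el_one_eq : el 1 = z := C.z_eq

theorem el_mul {a b : ℕ} (ha : a < 1152) (hb : b < 1152) : el a * el b = el (uMul a b) := (C.mul a b ha hb).2

theorem el_lc_comm {i : ℕ} (hi : i < 64) :
    el (lc i) * z = z * el (lc i) ∧ el (lc i) * el 2 = el 2 * el (lc i) := by
  refine ⟨Subgroup.mem_centralizer_singleton_iff.1 (C.mem _ (lc_lt hi)), ?_⟩
  rw [el_comm C (lc_lt hi) (by norm_num)]
  exact (num_spec hi).2.1

theorem exists_lc {g : G} (h1 : g * z = z * g) (h2 : g * el 2 = el 2 * g) : ∃ i < 64, el (lc i) = g := by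
  obtain ⟨c, hc, rfl⟩ := C.surj g (Subgroup.mem_centralizer_singleton_iff.2 h1)
  obtain ⟨i, hi, rfl⟩ := cent_spec hc ((el_comm C hc (by norm_num)).1 h2)
  exact ⟨i, hi, rfl⟩

theorem lc_mul {i j : ℕ} (hi : i < 64) (hj : j < 64) : el (lc i) * el (lc j) = el (lc (lMul i j)) := by
  rw [el_mul C (lc_lt hi) (lc_lt hj), (lMul_spec hi hj).2]

theorem lc_el_inj {i j : ℕ} (hi : i < 64) (hj : j < 64) (e : el (lc i) = el (lc j)) : i = j :=
  lc_inj hi hj (C.inj _ _ (lc_lt hi) (lc_lt hj) e)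

/-- Powers of a code times the cycling element on the elementary subgroup. -/
theorem move {s : G} (htab : ∀ p ∈ psiT, el p.1 * s = s * el p.2) {k n : ℕ} {fix : List ℕ}
    (h : eActB k n fix = true) (m : ℕ) : ∀ e ∈ eCodes,
    eIter k m e ∈ eCodes ∧ el e * (el k * s) ^ m = (el k * s) ^ m * el (eIter k m e) := by
  obtain ⟨hk, hE⟩ := eAct_spec h
  induction m with
  | zero => exact fun e he => ⟨he, by simp [eIter]⟩
  | succ m ih =>
    intro e he
    obtain ⟨hm, em⟩ := ih e he
    obtain ⟨hlt, hnext, -, -, p, hp, hp2, hpk⟩ := hE _ hm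
    obtain ⟨i, hi, hi1, -⟩ := psi_spec hp
    refine ⟨hnext, ?_⟩
    have e1 : el (eIter k m e) * (el k * s) = el k * s * el (eNext k (eIter k m e)) := by
      rw [← mul_assoc, el_mul C hlt hk, ← hpk, ← el_mul C hk (hi1 ▸ lc_lt hi), mul_assoc, htab p hp, hp2, mul_assoc]
    rw [pow_succ, ← mul_assoc, em, mul_assoc, e1, ← mul_assoc]
    rfl

/-- The period gives a fixed member. -/
theorem power_fix {s : G} (htab : ∀ p ∈ psiT, el p.1 * s = s * el p.2) {k n : ℕ} {fix : List ℕ}
    (h : eActB k n fix = true) : ∃ c ∈ fix, (el k * s) ^ n = el c := by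
  obtain ⟨hk, hE⟩ := eAct_spec h
  have hcomm : ∀ e ∈ eCodes, (el k * s) ^ n * el e = el e * (el k * s) ^ n := fun e he => by
    rw [(move C htab h n e he).2, (hE e he).2.2.1]
  obtain ⟨-, -, -, -, -, -, -, -, h1, -⟩ := small_ok
  obtain ⟨c, hc, ec⟩ := C.surj ((el k * s) ^ n) (Subgroup.mem_centralizer_singleton_iff.2 (by
    rw [← el_one_eq C]; exact hcomm 1 (List.contains_iff_mem.1 h1)))
  have hcE : c ∈ eCodes := by
    have h2 := eCen_ok
    simp only [eCenB, List.all_eq_true, List.mem_range, Bool.or_eq_true, List.contains_iff_mem, List.any_eq_true,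
      Bool.not_eq_true'] at h2
    refine (h2 c hc).resolve_right fun ⟨e, he, hne⟩ => ?_
    have : Nat.beq (uMul c e) (uMul e c) = true :=
      Nat.beq_eq ▸ (el_comm C hc (hE e he).1).1 (by rw [ec]; exact hcomm e he)
    rw [this] at hne
    exact Bool.noConfusion hne
  obtain ⟨hlt, hnext, -, hfix, -⟩ := hE c hcE
  refine ⟨c, hfix (C.inj _ _ (hE _ hnext).1 hlt ?_), ec.symm⟩
  have h3 : el c * (el k * s) = el k * s * el (eNext k c) := by
    have := (move C htab h 1 c hcE).2
    simpa [eIter] using this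
  have h4 : el c * (el k * s) = el k * s * el c := by rw [ec, pow_mul_comm']
  exact mul_left_cancel (h3.symm.trans h4)

/-- The first relation is forced. -/
theorem rel_one_of {s : G} (htab : ∀ p ∈ psiT, el p.1 * s = s * el p.2) : evW el s relOne = 1 := by
  obtain ⟨c, hc, e⟩ := power_fix C htab eOne_ok
  rw [List.mem_singleton] at hc
  rw [hc, C.one] at e
  rw [← e]
  simp [evW, evL, relOne, pow_succ, mul_assoc]

/-- The second relation holds after multiplying by the central involution, if needed. -/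
theorem exists_switch {s : G} (hcube : s ^ 3 = 1) (htab : ∀ p ∈ psiT, el p.1 * s = s * el p.2) :
    ∃ s', Cyc el s' := by
  have key : ∀ s' : G, (el 247 * s') ^ 4 = 1 → s' ^ 3 = 1 → (∀ p ∈ psiT, el p.1 * s' = s' * el p.2) →
      Cyc el s' := fun s' h4 h3 ht => ⟨h3, ht, rel_one_of C ht, by
    rw [← h4]; simp [evW, evL, relTwo, pow_succ, mul_assoc]⟩
  obtain ⟨c, hc, e⟩ := power_fix C htab eTwo_ok
  simp only [List.mem_cons, List.not_mem_nil, or_false] at hc
  rcases hc with rfl | rfl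
  · exact ⟨s, key s (e.trans C.one) hcube htab⟩
  obtain ⟨h12, h23, -, -, h11, -, -, -, hE1, hp1, hp2, hp3⟩ := small_ok
  rw [List.contains_iff_mem] at hE1 hp1 hp2 hp3
  have hz2 : el 1 * el 1 = 1 := by rw [el_mul C (by norm_num) (by norm_num), h11, C.one]
  refine ⟨s * el 1, key _ ?_ ?_ fun p hp => ?_⟩
  · set w := el 247 * s with hw
    have hE := (eAct_spec eTwo_ok).2
    obtain ⟨m1, e1⟩ := move C htab eTwo_ok 1 1 hE1
    obtain ⟨m2, e2⟩ := move C htab eTwo_ok 2 1 hE1
    obtain ⟨m3, e3⟩ := move C htab eTwo_ok 3 1 hE1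
    have l1 := (hE _ m1).1
    have l2 := (hE _ m2).1
    have l3 := (hE _ m3).1
    rw [pow_one] at e1
    rw [← hw] at e1 e2 e3
    have hexp : (w * el 1) ^ 4 = w ^ 4 * (el (eIter 247 3 1) * el (eIter 247 2 1) * el (eIter 247 1 1) * el 1) := by
      have a2 : el 1 * (w * w) = w * w * el (eIter 247 2 1) := by rw [← pow_two]; exact e2
      have s2 : (w * el 1) ^ 2 = w ^ 2 * (el (eIter 247 1 1) * el 1) := by
        rw [pow_two, pow_two, mul_assoc w (el 1), ← mul_assoc (el 1) w, e1]; group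
      have a3 : el (eIter 247 1 1) * w ^ 2 = w ^ 2 * el (eIter 247 3 1) := by
        have h3 : w * (el (eIter 247 1 1) * w ^ 2) = w * (w ^ 2 * el (eIter 247 3 1)) := by
          rw [← mul_assoc, ← e1, mul_assoc, ← mul_assoc w, ← pow_succ', e3]
        exact mul_left_cancel h3
      calc (w * el 1) ^ 4 = (w ^ 2 * (el (eIter 247 1 1) * el 1)) * (w ^ 2 * (el (eIter 247 1 1) * el 1)) := by
            rw [show 4 = 2 * 2 from rfl, pow_mul, s2, pow_two]
        _ = w ^ 2 * (el (eIter 247 1 1) * (el 1 * w ^ 2)) * (el (eIter 247 1 1) * el 1) := by group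
        _ = w ^ 2 * (el (eIter 247 1 1) * w ^ 2) * el (eIter 247 2 1) * (el (eIter 247 1 1) * el 1) := by
            rw [e2]; group
        _ = _ := by rw [a3]; group
    obtain ⟨hsw, h965⟩ := switch_ok
    have e32 := C.mul _ _ l3 l2
    have e321 := C.mul _ _ e32.1 l1
    rw [← mul_assoc, ← hw, hexp, e, e32.2, e321.2, el_mul C e321.1 (by norm_num), hsw,
      el_mul C (by norm_num) (by norm_num), h965, C.one]
  · have a1 : el 1 * s = s * el 2 := htab _ hp1
    have a3 : el 3 * s = s * el 1 := htab _ hp3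
    have e21 : el 2 * el 1 = el 3 := by rw [el_mul C (by norm_num) (by norm_num), small_ok.2.2.1]
    calc (s * el 1) ^ 3 = s * (el 1 * s) * el 1 * s * el 1 := by rw [pow_succ, pow_two]; group
      _ = s * s * (el 2 * el 1) * s * el 1 := by rw [a1]; group
      _ = s * s * (el 3 * s) * el 1 := by rw [e21]; group
      _ = s ^ 3 * (el 1 * el 1) := by rw [a3, pow_succ, pow_two]; group
      _ = 1 := by rw [hcube, hz2, one_mul]
  · obtain ⟨i, hi, hi1, hi2⟩ := psi_spec hp
    have hc : el p.2 * el 1 = el 1 * el p.2 := by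
      rw [el_one_eq C, ← hi2]; exact (el_lc_comm C (num_spec hi).2.2.2.1).1
    rw [← mul_assoc, htab p hp, mul_assoc, hc, ← mul_assoc]

/-- The normal subgroup carries what the fusion lemma uses. -/
theorem qData {Qm : Subgroup G} (hQ : ∀ g, g ∈ Qm ↔ ∃ v < 32, el v = g) : Cfsg.Agent.S1774.Data z Qm := by
  have hgrp := qGrp_ok
  simp only [qGrpB, List.all_eq_true, List.mem_range, Bool.and_eq_true, Bool.or_eq_true, Nat.beq_eq, Nat.blt_eq] at hgrp
  have hzp : ∀ x, x = 1 ∨ x = z → x ∈ Subgroup.zpowers z := by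
    rintro x (rfl | rfl)
    · exact Subgroup.one_mem _
    · exact Subgroup.mem_zpowers _
  have hzC : ∀ c < 1152, el c * z = z * el c := fun c hc => Subgroup.mem_centralizer_singleton_iff.1 (C.mem c hc)
  refine ⟨?_, ?_, ?_, ?_, ?_, ?_, ?_, ?_⟩
  · intro q hq
    obtain ⟨v, hv, rfl⟩ := (hQ q).1 hq
    exact hzC v (by omega)
  · intro g hg q hq
    obtain ⟨c, hc, rfl⟩ := C.surj g (Subgroup.mem_centralizer_singleton_iff.2 hg)
    obtain ⟨v, hv, rfl⟩ := (hQ q).1 hq
    have h1 := qSplit_ok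
    simp only [qSplitB, List.all_eq_true, List.mem_range, Nat.beq_eq] at h1
    have h2 := qConj_ok
    simp only [qConjB, List.all_eq_true, List.mem_range, Nat.beq_eq] at h2
    have hw : uGet aTab 5 (c / 32) v < 32 := Nat.mod_lt _ (by norm_num)
    have e2 := h2 (c / 32) (by omega) v hv
    rw [← h1 c hc, ← el_mul C (a := c % 32) (b := 32 * (c / 32)) (by omega) (by omega)]
    have e3 : el (32 * (c / 32)) * el v = el (uGet aTab 5 (c / 32) v) * el (32 * (c / 32)) := by
      rw [el_mul C (by omega) (by omega), el_mul C (by omega) (by omega), e2]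
    rw [mul_inv_rev, show ∀ a r x : G, a * r * x * (r⁻¹ * a⁻¹) = a * (r * x * r⁻¹) * a⁻¹ from fun a r x => by group,
      e3, mul_inv_cancel_right]
    exact mul_mem (mul_mem ((hQ _).2 ⟨_, Nat.mod_lt _ (by norm_num), rfl⟩) ((hQ _).2 ⟨_, hw, rfl⟩))
      (inv_mem ((hQ _).2 ⟨_, Nat.mod_lt _ (by norm_num), rfl⟩))
  · intro g hg hall
    obtain ⟨c, hc, rfl⟩ := C.surj g (Subgroup.mem_centralizer_singleton_iff.2 hg)
    refine (hQ _).2 ⟨c, ?_, rfl⟩
    have h1 := qSelf_ok
    simp only [qSelfB, List.all_eq_true, List.mem_range, Bool.or_eq_true, Nat.blt_eq, List.any_eq_true,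
      Bool.not_eq_true'] at h1
    refine (h1 c hc).resolve_right fun ⟨w, hw, hne⟩ => ?_
    have : Nat.beq (uMul c w) (uMul w c) = true :=
      Nat.beq_eq ▸ ((el_comm C hc (by omega)).1 (hall _ ((hQ _).2 ⟨w, hw, rfl⟩)).symm)
    rw [this] at hne
    exact Bool.noConfusion hne
  · intro a ha b hb
    obtain ⟨v, hv, rfl⟩ := (hQ a).1 ha
    obtain ⟨w, hw, rfl⟩ := (hQ b).1 hb
    obtain ⟨hlt, h1⟩ := (hgrp w hw).2 v hv
    have hv' : v < 1152 := by omega
    have hw' : w < 1152 := by omega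
    refine hzp _ ?_
    rcases ((hgrp v hv).2 w hw).2 with e | e
    · left
      rw [(el_comm C hv' hw').2 e, mul_inv_cancel_right, mul_inv_cancel]
    · right
      rw [el_mul C hv' hw', e, ← el_mul C (by norm_num) (by omega), ← el_mul C hw' hv', el_one_eq C]
      group
  · intro a ha
    obtain ⟨v, hv, rfl⟩ := (hQ a).1 ha
    refine hzp _ ?_
    rw [el_mul C (by omega) (by omega)]
    rcases (hgrp v hv).1 with e | e
    · exact Or.inl (by rw [e, C.one])
    · exact Or.inr (by rw [e, el_one_eq C])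
  · intro x hx hall h1
    obtain ⟨v, hv, rfl⟩ := (hQ x).1 hx
    have h2 := qCen_ok
    simp only [qCenB, List.all_eq_true, List.mem_range, Bool.or_eq_true, Nat.blt_eq, List.any_eq_true,
      Bool.not_eq_true'] at h2
    rcases h2 v hv with e | ⟨w, hw, hne⟩
    · interval_cases v
      · exact absurd C.one h1
      · rw [el_one_eq C]; exact Subgroup.mem_zpowers z
    · have : Nat.beq (uMul v w) (uMul w v) = true :=
        Nat.beq_eq ▸ ((el_comm C (by omega) (by omega)).1 (hall _ ((hQ _).2 ⟨w, hw, rfl⟩)).symm)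
      rw [this] at hne
      exact Bool.noConfusion hne
  · refine IsPGroup.of_card (n := 5) ?_
    let f : Fin 32 → ↥Qm := fun v => ⟨el v.val, (hQ _).2 ⟨v.val, v.2, rfl⟩⟩
    have hf : Function.Bijective f :=
      ⟨fun a b e => Fin.ext (C.inj _ _ (by omega) (by omega) (congrArg Subtype.val e)), fun ⟨g, hg⟩ => by
        obtain ⟨v, hv, rfl⟩ := (hQ g).1 hg
        exact ⟨⟨v, hv⟩, rfl⟩⟩
    rw [← Nat.card_congr (Equiv.ofBijective f hf), Nat.card_fin]
    rfl
  · intro hp
    exfalso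
    obtain ⟨-, -, -, -, -, -, hne, h3, -⟩ := small_ok
    have ha : aC < 1152 := by norm_num [aC]
    have e2 := C.mul aC aC ha ha
    have ha3 : el aC ^ 3 = 1 := by rw [pow_succ, pow_two, e2.2, el_mul C e2.1 ha, h3, C.one]
    obtain ⟨k, hk⟩ := hp ⟨el aC, C.mem aC ha⟩
    have hk' : el aC ^ 2 ^ k = 1 := congrArg Subtype.val hk
    have hone : el aC = 1 := orderOf_eq_one_iff.1 (Nat.eq_one_of_dvd_coprimes
      (Nat.Coprime.pow_right k (by norm_num : Nat.Coprime 3 2)) (orderOf_dvd_of_pow_eq_one ha3)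
      (orderOf_dvd_of_pow_eq_one hk'))
    refine hne (C.inj _ 0 e2.1 (by norm_num) ?_)
    rw [← e2.2, hone, one_mul, C.one]

/-- A conjugate of `z` in the normal subgroup moves to the second code. -/
theorem exists_two {Qm : Subgroup G} (hQ : ∀ g, g ∈ Qm ↔ ∃ v < 32, el v = g) {g : G} (hg : g * z * g⁻¹ ∈ Qm)
    (hne : g * z * g⁻¹ ≠ z) : ∃ g' : G, g' * z * g'⁻¹ = el 2 := by
  obtain ⟨v, hv, e⟩ := (hQ _).1 hg
  have hzz : z * z = 1 := by
    rw [← el_one_eq C, el_mul C (by norm_num) (by norm_num), small_ok.2.2.2.2.1, C.one]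
  have h2 : uMul v v = 0 := by
    refine C.inj _ 0 (C.mul v v (by omega) (by omega)).1 (by norm_num) ?_
    rw [← el_mul C (by omega) (by omega), e, C.one, show g * z * g⁻¹ * (g * z * g⁻¹) = g * (z * z) * g⁻¹ by group,
      hzz]
    group
  have hv2 : ¬ v < 2 := by
    intro hlt
    interval_cases v
    · rw [C.one] at e
      have hz1 : z = 1 := conj_eq_one_iff.1 e.symm
      exact hne (by rw [hz1]; group)
    · exact hne (e ▸ el_one_eq C)
  have h := qInv_ok
  simp only [qInvB, List.all_eq_true, List.mem_range, Bool.or_eq_true, Nat.blt_eq, Bool.not_eq_true',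
    List.any_eq_true, Bool.and_eq_true, Nat.beq_eq] at h
  rcases h v hv with (h' | h') | ⟨⟨a, k, r⟩, -, ⟨⟨⟨-, hk⟩, hr⟩, e'⟩⟩
  · exact absurd h' hv2
  · have : Nat.beq (uMul v v) 0 = true := Nat.beq_eq ▸ h2
    rw [this] at h'
    exact Bool.noConfusion h'
  · refine ⟨(el k)⁻¹ * g, ?_⟩
    have e1 : el v * el k = el k * el 2 := by
      rw [el_mul C (by omega) hk, el_mul C hk (by norm_num), e']
    rw [show (el k)⁻¹ * g * z * ((el k)⁻¹ * g)⁻¹ = (el k)⁻¹ * (g * z * g⁻¹ * el k) by group, ← e, e1,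
      inv_mul_cancel_left]

/-- The cycling element. -/
theorem exists_cyc [Finite G] {Qm : Subgroup G} (hQ : ∀ g, g ∈ Qm ↔ ∃ v < 32, el v = g)
    (hnwc : ∃ g : G, g * z * g⁻¹ ∈ Qm ∧ g * z * g⁻¹ ≠ z)
    (hQQg : ∀ g : G, g * z * g⁻¹ ∈ Qm → g * z * g⁻¹ ≠ z →
      Nat.card ↥(Qm ⊓ Qm.map (MulAut.conj g).toMonoidHom) = 4) :
    ∃ (el' : ℕ → G) (s : G), Code z el' ∧ Cyc el' s := by
  classical
  obtain ⟨g₀, hg₀, hg₀ne⟩ := hnwc
  obtain ⟨g, hg⟩ := exists_two C hQ hg₀ hg₀ne
  obtain ⟨h12, h23, h21, h32, h11, h22, -, -, -, -, -, -⟩ := small_ok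
  have hzz : z * z = 1 := by rw [← el_one_eq C, el_mul C (by norm_num) (by norm_num), h11, C.one]
  have hz1 : z ≠ 1 := fun e => by
    have := C.inj 1 0 (by norm_num) (by norm_num) ((el_one_eq C).trans (e.trans C.one.symm))
    omega
  have hzz' : z * el 2 = el 3 := by rw [← el_one_eq C, el_mul C (by norm_num) (by norm_num), h12]
  have h2ne : el 2 ≠ z := fun e => by
    have := C.inj 2 1 (by norm_num) (by norm_num) (e.trans (el_one_eq C).symm)
    omega
  have h2Q : el 2 ∈ Qm := (hQ _).2 ⟨2, by norm_num, rfl⟩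
  obtain ⟨-, hmain⟩ := Cfsg.Agent.S1774.main z hzz hz1 Qm (qData C hQ) g (hg ▸ h2ne) (hg ▸ h2Q)
  obtain ⟨y, -, hy1, hy2⟩ := hmain (el 2) (Subgroup.subset_closure (by simp [hg])) (el 3)
    (hzz' ▸ mul_mem (Subgroup.subset_closure (by simp)) (Subgroup.subset_closure (by simp [hg])))
    (fun e => by
      have := C.inj 2 0 (by norm_num) (by norm_num) (e.trans C.one.symm)
      omega)
    (fun e => by
      have := C.inj 3 0 (by norm_num) (by norm_num) (e.trans C.one.symm)
      omega)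
    (fun e => by
      have := C.inj 2 3 (by norm_num) (by norm_num) e
      omega)
  rw [hg] at hy2
  have hy3 : y * el 3 * y⁻¹ = z := by
    rw [← hzz', show y * (z * el 2) * y⁻¹ = (y * z * y⁻¹) * (y * el 2 * y⁻¹) by group, hy1, hy2,
      el_mul C (by norm_num) (by norm_num), h23, el_one_eq C]
  have hconj : ∀ {a b : G}, a * b = b * a → y * a * y⁻¹ * (y * b * y⁻¹) = y * b * y⁻¹ * (y * a * y⁻¹) :=
    fun {a b} e => by rw [conj_mul, e, ← conj_mul]
  have hex : ∀ i, i < 64 → ∃ j < 64, el (lc j) = y * el (lc i) * y⁻¹ := fun i hi => by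
    obtain ⟨a1, a2⟩ := el_lc_comm C hi
    have a3 : el (lc i) * el 3 = el 3 * el (lc i) := by
      rw [← hzz', ← mul_assoc, a1, mul_assoc, a2, mul_assoc]
    refine exists_lc C ?_ ?_
    · have := hconj a3; rwa [hy3] at this
    · have := hconj a1; rwa [hy1] at this
  choose f hf hfe using hex
  let β : ℕ → ℕ := fun i => if hi : i < 64 then f i hi else 0
  have hlt : ∀ i < 64, β i < 64 := fun i hi => by simp only [β, dif_pos hi]; exact hf i hi
  have hspec : ∀ i < 64, el (lc (β i)) = y * el (lc i) * y⁻¹ := fun i hi => by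
    simp only [β, dif_pos hi]; exact hfe i hi
  obtain ⟨l0, l1, l2, l3, -, -, -, -⟩ := lc_zero
  have v0 : β 0 = 0 := lc_el_inj C (hlt 0 (by norm_num)) (by norm_num)
    (by rw [hspec 0 (by norm_num), l0, C.one, mul_one, mul_inv_cancel])
  have v1 : β 1 = 2 := lc_el_inj C (hlt 1 (by norm_num)) (by norm_num)
    (by rw [hspec 1 (by norm_num), l1, l2, el_one_eq C, hy1])
  have v2 : β 2 = 3 := lc_el_inj C (hlt 2 (by norm_num)) (by norm_num)
    (by rw [hspec 2 (by norm_num), l2, l3, hy2])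
  have v3 : β 3 = 1 := lc_el_inj C (hlt 3 (by norm_num)) (by norm_num)
    (by rw [hspec 3 (by norm_num), l3, l1, hy3, el_one_eq C])
  have hy3z : (y * y * y) * z = z * (y * y * y) := by
    have e : y * y * y * z * (y * y * y)⁻¹ = z := by
      calc y * y * y * z * (y * y * y)⁻¹ = y * (y * (y * z * y⁻¹) * y⁻¹) * y⁻¹ := by group
        _ = z := by rw [hy1, hy2, hy3]
    exact mul_inv_eq_iff_eq_mul.1 e
  have hy32 : (y * y * y) * el 2 = el 2 * (y * y * y) := by
    have e : y * y * y * el 2 * (y * y * y)⁻¹ = el 2 := by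
      calc y * y * y * el 2 * (y * y * y)⁻¹ = y * (y * (y * el 2 * y⁻¹) * y⁻¹) * y⁻¹ := by group
        _ = el 2 := by rw [hy2, hy3, hy1]
    exact mul_inv_eq_iff_eq_mul.1 e
  obtain ⟨c, hc, ec⟩ := exists_lc C hy3z hy32
  have b : LAut β := {
    lt := hlt
    zero := v0
    mul := fun i hi j hj => lc_el_inj C (hlt _ (lMul_spec hi hj).1) (lMul_spec (hlt i hi) (hlt j hj)).1 (by
      rw [hspec _ (lMul_spec hi hj).1, ← lc_mul C hi hj, ← lc_mul C (hlt i hi) (hlt j hj), hspec i hi, hspec j hj,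
        conj_mul])
    one := v1
    two := v2
    meet := fun i hi hi4 hβ => by
      have hmem : ∀ j, j < 16 → β j < 16 →
          el (lc (β j)) ∈ Qm ⊓ Qm.map (MulAut.conj y).toMonoidHom := fun j hj hj' => by
        refine ⟨(hQ _).2 ⟨_, (num_spec (hlt j (by omega))).2.2.1.1 hj', rfl⟩, el (lc j),
          (hQ _).2 ⟨_, (num_spec (show j < 64 by omega)).2.2.1.1 hj, rfl⟩, ?_⟩
        rw [hspec j (by omega)]
        rfl
      let S : Fin 5 → ℕ := ![0, 1, 2, 3, i]
      have hS : ∀ k, S k < 16 ∧ β (S k) < 16 := by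
        intro k
        fin_cases k
        · exact ⟨by simp [S], by simp [S, v0]⟩
        · exact ⟨by simp [S], by simp [S, v1]⟩
        · exact ⟨by simp [S], by simp [S, v2]⟩
        · exact ⟨by simp [S], by simp [S, v3]⟩
        · exact ⟨hi, hβ⟩
      have hSinj : Function.Injective S := by
        intro k k' e
        fin_cases k <;> fin_cases k' <;> simp [S] at e ⊢ <;> omega
      have hcard := Nat.card_le_card_of_injective
        (fun k : Fin 5 => (⟨_, hmem _ (hS k).1 (hS k).2⟩ : ↥(Qm ⊓ Qm.map (MulAut.conj y).toMonoidHom)))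
        (fun k k' e => hSinj (by
          have h1 : el (lc (β (S k))) = el (lc (β (S k'))) := congrArg Subtype.val e
          have hk := (hS k).1
          have hk' := (hS k').1
          rw [hspec _ (by omega), hspec _ (by omega)] at h1
          exact lc_el_inj C (by omega) (by omega) (mul_left_cancel (mul_right_cancel h1))))
      rw [Nat.card_fin, hQQg y (hy1.symm ▸ h2Q) (hy1.symm ▸ h2ne)] at hcard
      omega
    cube := ⟨c, hc, lc_el_inj C (hlt c hc) hc (by rw [hspec c hc, ec]; group),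
      fun i hi => lc_el_inj C (lMul_spec (hlt _ (hlt _ (hlt i hi))) hc).1 (lMul_spec hc hi).1 (by
        rw [← lc_mul C (hlt _ (hlt _ (hlt i hi))) hc, ← lc_mul C hc hi, hspec _ (hlt _ (hlt i hi)),
          hspec _ (hlt i hi), hspec i hi, ec]
        group)⟩ }
  obtain ⟨k, hk, hk'⟩ := b.exists_inn
  set s := y⁻¹ * el (lc k) with hs
  have hmove : ∀ i < 64, el (lc i) * s = s * el (lc (lP i)) := fun i hi => by
    have e : el (lc (β i)) * el (lc k) = el (lc k) * el (lc (lP i)) := by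
      rw [lc_mul C (hlt i hi) hk, lc_mul C hk (num_spec hi).2.2.2.1, hk' i hi]
    rw [hspec i hi] at e
    calc el (lc i) * s = y⁻¹ * (y * el (lc i) * y⁻¹ * el (lc k)) := by rw [hs]; group
      _ = _ := by rw [e, hs]; group
  have htab : ∀ p ∈ psiT, el p.1 * s = s * el p.2 := fun p hp => by
    obtain ⟨i, hi, e1, e2⟩ := psi_spec hp
    rw [← e1, ← e2]; exact hmove i hi
  clear_value s
  refine ⟨el, ?_⟩
  suffices hcube : s ^ 3 = 1 by
    obtain ⟨s', hs'⟩ := exists_switch C hcube htab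
    exact ⟨s', C, hs'⟩
  have hfix := lFix_ok
  simp only [lFixB, List.all_eq_true, List.mem_range, Bool.and_eq_true, Nat.beq_eq, Bool.or_eq_true,
    Bool.not_eq_true', List.any_eq_true] at hfix
  have hlP : ∀ i < 64, lP i < 64 := fun i hi => (num_spec hi).2.2.2.1
  have hu : ∀ i < 64, el (lc i) * s ^ 3 = s ^ 3 * el (lc i) := fun i hi => by
    rw [pow_succ, pow_two, ← mul_assoc, ← mul_assoc, hmove i hi, mul_assoc s (el _) s, hmove _ (hlP i hi),
      ← mul_assoc, mul_assoc (s * s) (el _) s, hmove _ (hlP _ (hlP i hi)), (hfix i hi).1, ← mul_assoc]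
  obtain ⟨j, hj, ej⟩ := exists_lc C (g := s ^ 3)
    (by have := hu 1 (by norm_num); rw [l1, el_one_eq C] at this; exact this.symm)
    (by have := hu 2 (by norm_num); rw [l2] at this; exact this.symm)
  rcases (hfix j hj).2 with (e | e) | ⟨i, hi, e⟩
  · rw [e, l0, C.one] at ej; exact ej.symm
  · exfalso
    have h1 : lP j = j := lc_el_inj C (hlP j hj) hj (mul_left_cancel (a := s) (by
      rw [← hmove j hj, ej, ← pow_succ, ← pow_succ']))
    have : Nat.beq (lP j) j = true := Nat.beq_eq ▸ h1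
    rw [this] at e
    exact Bool.noConfusion e
  · exfalso
    have h1 : lMul j i = lMul i j := lc_el_inj C (lMul_spec hj hi).1 (lMul_spec hi hj).1 (by
      rw [← lc_mul C hj hi, ← lc_mul C hi hj, ej]; exact (hu i hi).symm)
    have : Nat.beq (lMul j i) (lMul i j) = true := Nat.beq_eq ▸ h1
    rw [this] at e
    exact Bool.noConfusion e

end CfsgLib.UFourType.Fusion
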