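import Cfsg.Agent.Lib.UFourType.Basic
import Cfsg.Agent.Lib.UFourType.Fusion.Data

/-!
Checks on the centraliser of the four-group in local numbers.
-/

set_option autoImplicit false
set_option maxRecDepth 100000

namespace CfsgLib.UFourType.Fusion

/-- The code of a local number. -/
def lc (i : ℕ) : ℕ := lCodes.getD i 0

/-- The product of local numbers. -/
def lMul (i j : ℕ) : ℕ := uGet lRows 6 i j

/-- The prescribed table. -/
def lP (i : ℕ) : ℕ := lPsi.getD i 0

/-- The value on a local number of the map with the given images of the generators. -/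
def lVal : List ℕ → ℕ → ℕ → ℕ
  | [], _, a => a
  | y :: ys, i, a => lVal ys (i / 2) (if i % 2 = 1 then lMul a y else a)

/-- The generators. -/
def lG : List ℕ := [1, 2, 4, 8, 16, 32]

/-- Local numbers multiply as their codes. -/
def mulB : Bool :=
  (List.range 64).all fun i => Nat.blt (lc i) 1152 && (List.range 64).all fun j =>
    Nat.blt (lMul i j) 64 && Nat.beq (uMul (lc i) (lc j)) (lc (lMul i j))

/-- The local numbers are the codes commuting with the second involution. -/
def centB : Bool :=
  (List.range 1152).all fun c => !(Nat.beq (uMul c 2) (uMul 2 c)) || lCodes.contains c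

/-- Facts on single numbers. -/
def numB : Bool :=
  Nat.beq lCodes.length 64 && (List.range 64).all fun i =>
    Nat.beq (lCodes.idxOf (lc i)) i && Nat.beq (uMul (lc i) 2) (uMul 2 (lc i)) &&
      (Nat.blt i 16 == Nat.blt (lc i) 32) && Nat.blt (lP i) 64 && Nat.beq (lVal lG i 0) i

/-- The prescribed table lists the same pairs. -/
def psiB : Bool :=
  psiT.all fun p => (List.range 64).any fun i => Nat.beq (lc i) p.1 && Nat.beq (lc (lP i)) p.2

theorem mul_ok : mulB = true := by decide +kernel

theorem cent_ok : centB = true := by decide +kernel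

theorem num_ok : numB = true := by decide +kernel

theorem psi_ok : psiB = true := by decide +kernel

theorem lc_zero : lc 0 = 0 ∧ lc 1 = 1 ∧ lc 2 = 2 ∧ lc 3 = 3 ∧ lP 1 = 2 ∧ lP 2 = 3 ∧ lP 3 = 1 ∧ lP 0 = 0 := by
  decide +kernel

theorem lc_lt {i : ℕ} (hi : i < 64) : lc i < 1152 := by
  have h := mul_ok
  simp only [mulB, List.all_eq_true, List.mem_range, Bool.and_eq_true, Nat.blt_eq] at h
  exact (h i hi).1

theorem lMul_spec {i j : ℕ} (hi : i < 64) (hj : j < 64) :
    lMul i j < 64 ∧ uMul (lc i) (lc j) = lc (lMul i j) := by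
  have h := mul_ok
  simp only [mulB, List.all_eq_true, List.mem_range, Bool.and_eq_true, Nat.blt_eq, Nat.beq_eq] at h
  exact (h i hi).2 j hj

theorem num_spec {i : ℕ} (hi : i < 64) :
    lCodes.idxOf (lc i) = i ∧ uMul (lc i) 2 = uMul 2 (lc i) ∧ (i < 16 ↔ lc i < 32) ∧ lP i < 64 ∧ lVal lG i 0 = i := by
  have h := num_ok
  simp only [numB, List.all_eq_true, List.mem_range, Bool.and_eq_true, Nat.beq_eq, beq_iff_eq] at h
  obtain ⟨⟨⟨⟨h1, h2⟩, h3⟩, h4⟩, h5⟩ := h.2 i hi
  refine ⟨h1, h2, ?_, by simpa using h4, h5⟩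
  rw [← Nat.blt_eq, ← Nat.blt_eq, h3]

theorem lc_inj {i j : ℕ} (hi : i < 64) (hj : j < 64) (e : lc i = lc j) : i = j := by
  rw [← (num_spec hi).1, e, (num_spec hj).1]

theorem cent_spec {c : ℕ} (hc : c < 1152) (h : uMul c 2 = uMul 2 c) : ∃ i < 64, lc i = c := by
  have h1 := cent_ok
  simp only [centB, List.all_eq_true, List.mem_range, Bool.or_eq_true, Bool.not_eq_true'] at h1
  rcases h1 c hc with h2 | h2
  · have : Nat.beq (uMul c 2) (uMul 2 c) = true := Nat.beq_eq ▸ h
    rw [this] at h2
    exact absurd h2 (by simp)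
  · have hmem : c ∈ lCodes := List.contains_iff_mem.1 h2
    have hlt := List.idxOf_lt_length_of_mem hmem
    have hlen : lCodes.length = 64 := by
      have h3 := num_ok
      simp only [numB, Bool.and_eq_true, Nat.beq_eq] at h3
      exact h3.1
    refine ⟨lCodes.idxOf c, hlen ▸ hlt, ?_⟩
    rw [lc, List.getD_eq_getElem _ _ hlt, List.getElem_idxOf hlt]

end CfsgLib.UFourType.Fusion
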